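import Groth.Agent.Lib.WedgePair27.Sheaf
import Groth.Agent.Lib.HomSh.QCoh
import Groth.Agent.Lib.Ref1.Tensor
import Groth.Agent.Lib.PPGen.HomQCoh
import Groth.Agent.Lib.Euler.Coh
import Groth.Agent.Lib.ProjFormula.Map

/-!
# The two sheaves of homomorphisms agree
-/

set_option autoImplicit false
set_option maxHeartbeats 800000
set_option linter.all false
set_option backward.isDefEq.respectTransparency false

universe u

open CategoryTheory CategoryTheory.Limits AlgebraicGeometry Opposite TopologicalSpace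
open GrothLib.LocFreeHom (iHom T curry uncurry ev)
open GrothLib.GenFlatBC9 (tens tmulHom)
open RefHull (homSh stalkMapₗ stalkMapₗ_germ)
open scoped TensorProduct

noncomputable section

namespace GrothLib.LM28

variable {X : Scheme.{u}} (F G : X.Modules)

/-- The value of a section of the sheaf Hom at a section. -/
def appV {U : X.Opens} (g : Γ(homSh F G, U)) (m : Γ(F, U)) : Γ(G, U) :=
  (HomSh.existsUnique_apply g m).exists.choose

theorem germ_appV {U : X.Opens} (g : Γ(homSh F G, U)) (m : Γ(F, U)) (y : X) (hy : y ∈ U) :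
    G.presheaf.germ U y hy (appV F G g m) = g.1 ⟨y, hy⟩ (F.presheaf.germ U y hy m) :=
  ((HomSh.existsUnique_apply g m).exists.choose_spec y hy).symm

theorem ext_germ {U : X.Opens} {s t : Γ(G, U)}
    (h : ∀ (y : X) (hy : y ∈ U), G.presheaf.germ U y hy s = G.presheaf.germ U y hy t) : s = t :=
  TopCat.Presheaf.section_ext (C := Ab.{u}) (X := X.carrier) ⟨G.presheaf, G.isSheaf⟩ U s t h

theorem map_val {U V : X.Opens} (h : V ≤ U) (g : Γ(homSh F G, U)) (y : X) (hy : y ∈ V) :
    ((homSh F G).presheaf.map (homOfLE h).op g).1 ⟨y, hy⟩ = g.1 ⟨y, h hy⟩ := rfl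

/-- The pairing, bilinear. -/
def appB (U : X.Opens) : Γ(F, U) →ₗ[Γ(X, U)] Γ(homSh F G, U) →ₗ[Γ(X, U)] Γ(G, U) :=
  LinearMap.mk₂ Γ(X, U) (fun m g => appV F G g m)
    (fun a b g => ext_germ G fun y hy => by simp only [germ_appV, map_add])
    (fun c a g => ext_germ G fun y hy => by
      simp only [germ_appV]
      rw [Mero.germ_smul, Mero.germ_smul, map_smul, germ_appV])
    (fun a g g' => ext_germ G fun y hy => by
      simp only [germ_appV, map_add]
      rfl)
    (fun c a g => ext_germ G fun y hy => by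
      simp only [germ_appV]
      rw [Mero.germ_smul, germ_appV]
      rfl)

theorem appB_res {U V : X.Opens} (h : V ≤ U) (m : Γ(F, U)) (g : Γ(homSh F G, U)) :
    G.presheaf.map (homOfLE h).op (appB F G U m g) =
      appB F G V (F.presheaf.map (homOfLE h).op m) ((homSh F G).presheaf.map (homOfLE h).op g) :=
  ext_germ G fun y hy => by
    show _ = G.presheaf.germ V y hy (appV F G _ _)
    rw [germ_appV, map_val, TopCat.Presheaf.germ_res_apply, TopCat.Presheaf.germ_res_apply]
    exact germ_appV F G g m y (h hy)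

variable (hF : Coh.IsCoh F) [IsLocallyNoetherian X] (hG : Coh.IsCoh G)
include hF hG

theorem isQCoh_hom : (homSh F G).IsQuasicoherent := by
  have h := HomSh.isCoh_homSh (F := F) (G := G) (HomSh.hasRel_of_isCoh hF) hG
  exact h.1

/-- Evaluation. -/
theorem exists_ev : ∃ ε : (T F).obj (homSh F G) ⟶ G,
    ∀ (W : X.affineOpens) (m : Γ(F, W.1)) (g : Γ(homSh F G, W.1)),
      ε.app W.1 (OX.tmulSec F (homSh F G) W.1 m g) = appV F G g m := by
  haveI := hF.1
  haveI := isQCoh_hom F G hF hG
  let θ : ∀ W : X.affineOpens, Γ(F, W.1) ⊗[Γ(X, W.1)] Γ(homSh F G, W.1) ≃ₗ[Γ(X, W.1)]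
      Γ(tens F (homSh F G), W.1) :=
    fun W => LinearEquiv.ofBijective _ (GenFlatBC9.bijective_tmulHom F (homSh F G) W.2)
  obtain ⟨Φ, hΦ⟩ := AffHom.exists_hom (M := tens F (homSh F G)) (N := G)
    (fun W => (TensorProduct.lift (appB F G W.1)).comp (θ W).symm.toLinearMap) (fun U V hVU m => by
      obtain ⟨t, rfl⟩ := (θ U).surjective m
      simp only [LinearMap.comp_apply, LinearEquiv.coe_coe, LinearEquiv.symm_apply_apply]
      induction t using TensorProduct.induction_on with
      | zero => simp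
      | add a b ha hb => simp only [map_add, ha, hb]
      | tmul a b =>
        have h1 : (tens F (homSh F G)).presheaf.map (homOfLE hVU).op (θ U (a ⊗ₜ b)) =
            θ V (F.presheaf.map (homOfLE hVU).op a ⊗ₜ (homSh F G).presheaf.map (homOfLE hVU).op b) :=
          GenFlatBC9.res_tmulSec F (homSh F G) hVU a b
        rw [h1, LinearEquiv.symm_apply_apply, TensorProduct.lift.tmul, TensorProduct.lift.tmul]
        exact appB_res F G hVU a b)
  refine ⟨Φ, fun W a b => ?_⟩
  refine (hΦ W _).trans ?_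
  show TensorProduct.lift (appB F G W.1) ((θ W).symm (θ W (a ⊗ₜ b))) = _
  rw [LinearEquiv.symm_apply_apply, TensorProduct.lift.tmul]
  rfl

omit [IsLocallyNoetherian X] hF hG in
/-- The transpose of a pairing, in the concrete sheaf Hom. -/
theorem exists_transpose {P : X.Modules} (h : (T F).obj P ⟶ G) : ∃ ψ : P ⟶ homSh F G,
    ∀ (U : X.Opens) (p : Γ(P, U)) (y : X) (hy : y ∈ U) (v : F.presheaf.stalk y),
      (ψ.app U p).1 ⟨y, hy⟩ v = stalkMapₗ h y (Ref1.tmulStalk F P y v (P.presheaf.germ U y hy p)) := by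
  let S : ∀ U : X.Opens, Γ(P, U) → Γ(homSh F G, U) := fun U p =>
    ⟨fun y => (stalkMapₗ h y.1).comp ((Ref1.tmulStalk F P y.1).flip (P.presheaf.germ U y.1 y.2 p)),
      fun V i m x => ⟨V, x.2, 𝟙 V, h.app V (OX.tmulSec F P V m (P.presheaf.map i.op p)), fun y => by
        show stalkMapₗ h y.1 (Ref1.tmulStalk F P y.1 _ _) = _
        refine Eq.trans ?_ (stalkMapₗ_germ h y.1 y.2 _)
        refine congrArg _ ?_
        refine Eq.trans ?_ (Ref1.germ_tmul F P y.2 m (P.presheaf.map i.op p)).symm
        rw [TopCat.Presheaf.germ_res_apply]⟩⟩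
  obtain ⟨ψ, hψ⟩ := AffHom.exists_hom_basis (M := P) (N := homSh F G) (B := fun U : X.Opens => U)
    (by rw [Set.range_id']; exact Opens.isBasis_iff_nbhd.2 fun {U x} hx => ⟨U, trivial, hx, le_rfl⟩)
    (fun U =>
      { toFun := S U
        map_add' := fun a b => Subtype.ext (funext fun y => LinearMap.ext fun v => by
          show stalkMapₗ h y.1 (Ref1.tmulStalk F P y.1 v (P.presheaf.germ U y.1 y.2 (a + b))) =
            stalkMapₗ h y.1 (Ref1.tmulStalk F P y.1 v (P.presheaf.germ U y.1 y.2 a)) +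
            stalkMapₗ h y.1 (Ref1.tmulStalk F P y.1 v (P.presheaf.germ U y.1 y.2 b))
          rw [map_add, map_add, map_add])
        map_smul' := fun c a => Subtype.ext (funext fun y => LinearMap.ext fun v => by
          show stalkMapₗ h y.1 (Ref1.tmulStalk F P y.1 v (P.presheaf.germ U y.1 y.2 (c • a))) =
            X.presheaf.germ U y.1 y.2 c •
              stalkMapₗ h y.1 (Ref1.tmulStalk F P y.1 v (P.presheaf.germ U y.1 y.2 a))
          rw [Mero.germ_smul, map_smul, map_smul]) })
    (fun U V hVU p => Subtype.ext (funext fun y => LinearMap.ext fun v => by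
      show stalkMapₗ h y.1 (Ref1.tmulStalk F P y.1 v (P.presheaf.germ U y.1 (hVU y.2) p)) =
        stalkMapₗ h y.1 (Ref1.tmulStalk F P y.1 v (P.presheaf.germ V y.1 y.2 (P.presheaf.map (homOfLE hVU).op p)))
      rw [TopCat.Presheaf.germ_res_apply]))
  exact ⟨ψ, fun U p y hy v => by rw [hψ U p]; rfl⟩

/-- **The concrete sheaf Hom out of a coherent module is the internal Hom.** -/
theorem nonempty_homSh_iso_coh [DCoh.HasSheafHom F] : Nonempty (homSh F G ≅ iHom F G) := by
  haveI := hF.1
  haveI := isQCoh_hom F G hF hG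
  obtain ⟨ε, hε⟩ := exists_ev F G hF hG
  obtain ⟨ψ, hψ⟩ := exists_transpose F G (P := iHom F G) (ev F G)
  let φ : homSh F G ⟶ iHom F G := curry ε
  have hφ : (T F).map φ ≫ ev F G = ε := LocFreeHom.uncurry_curry ε
  refine ⟨⟨φ, ψ, ?_, ?_⟩⟩
  · refine AffHom.hom_ext fun W g => Subtype.ext (funext fun y => LinearMap.ext fun v => ?_)
    show (ψ.app W.1 (φ.app W.1 g)).1 y v = g.1 y v
    obtain ⟨y, hy⟩ := y
    rw [hψ]
    obtain ⟨V, hyV, m, rfl⟩ := TopCat.Presheaf.exists_germ_eq F.presheaf v
    obtain ⟨W', hW', hyW', hle⟩ := exists_isAffineOpen_mem_and_subset (show y ∈ W.1 ⊓ V from ⟨hy, hyV⟩)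
    have l1 : W' ≤ W.1 := fun z hz => (hle hz).1
    have l2 : W' ≤ V := fun z hz => (hle hz).2
    rw [← TopCat.Presheaf.germ_res_apply F.presheaf (homOfLE l2) y hyW' m,
      ← TopCat.Presheaf.germ_res_apply (iHom F G).presheaf (homOfLE l1) y hyW' (φ.app W.1 g)]
    refine (congrArg _ (Ref1.germ_tmul F (iHom F G) hyW' _ _).symm).trans ?_
    refine (stalkMapₗ_germ (ev F G) y hyW' _).trans ?_
    have e1 : (iHom F G).presheaf.map (homOfLE l1).op (φ.app W.1 g) =
        φ.app W' ((homSh F G).presheaf.map (homOfLE l1).op g) :=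
      (ConcreteCategory.congr_hom (φ.mapPresheaf.naturality (homOfLE l1).op) g).symm
    rw [e1]
    have e2 := WedgePair27.tMap_right_tmulSec F φ W' (F.presheaf.map (homOfLE l2).op m)
      ((homSh F G).presheaf.map (homOfLE l1).op g)
    refine (congrArg (fun z => G.presheaf.germ W' y hyW' ((ev F G).app W' z)) e2.symm).trans ?_
    show G.presheaf.germ W' y hyW' (((T F).map φ ≫ ev F G).app W' _) = _
    rw [hφ]
    exact (congrArg _ (hε ⟨W', hW'⟩ _ _)).trans (germ_appV F G _ _ y hyW')
  · refine LocFreeHom.hom_ext ?_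
    show (T F).map (ψ ≫ φ) ≫ ev F G = (T F).map (𝟙 _) ≫ ev F G
    rw [Functor.map_comp, Category.assoc, hφ, CategoryTheory.Functor.map_id, Category.id_comp]
    refine ProjFormula.hom_ext_tmul fun U m s => ext_germ G fun y hy => ?_
    show G.presheaf.germ U y hy (ε.app U (((T F).map ψ).app U (OX.tmulSec F (iHom F G) U m s))) =
      G.presheaf.germ U y hy ((ev F G).app U (OX.tmulSec F (iHom F G) U m s))
    obtain ⟨W', hW', hyW', hle⟩ := exists_isAffineOpen_mem_and_subset (show y ∈ U from hy)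
    have l : W' ≤ U := hle
    rw [WedgePair27.tMap_right_tmulSec, ← TopCat.Presheaf.germ_res_apply G.presheaf (homOfLE l) y hyW']
    have e1 : G.presheaf.map (homOfLE l).op (ε.app U (OX.tmulSec F (homSh F G) U m (ψ.app U s))) =
        ε.app W' ((tens F (homSh F G)).presheaf.map (homOfLE l).op (OX.tmulSec F (homSh F G) U m (ψ.app U s))) :=
      (ConcreteCategory.congr_hom (ε.mapPresheaf.naturality (homOfLE l).op) _).symm
    rw [e1, GenFlatBC9.res_tmulSec, hε ⟨W', hW'⟩, germ_appV, map_val, TopCat.Presheaf.germ_res_apply, hψ]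
    refine (congrArg _ (Ref1.germ_tmul F (iHom F G) hy m s).symm).trans ?_
    exact stalkMapₗ_germ (ev F G) y hy _

omit hF hG in
/-- The case of a vector bundle. -/
theorem nonempty_homSh_iso (hF : FlatMod.IsFinLocFree F) (hG : Coh.IsCoh G) [DCoh.HasSheafHom F] :
    Nonempty (homSh F G ≅ iHom F G) :=
  nonempty_homSh_iso_coh F G (Euler.isCoh_of_isFinLocFree hF) hG

end GrothLib.LM28
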