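import Groth.Agent.Lib.ConStalk4.Seq
import Groth.Agent.Lib.ConStalk4.DiffMap
import Mathlib.RingTheory.Smooth.Basic

/-!
# Retraction of `C_{Z/X} → i^*Ω` at smooth points
-/

set_option autoImplicit false
set_option maxHeartbeats 1000000
set_option linter.all false
set_option backward.isDefEq.respectTransparency false

universe u

open CategoryTheory CategoryTheory.Limits AlgebraicGeometry Opposite TopologicalSpace
open scoped TensorProduct
open GrothLib GrothLib.OmegaUniv GrothLib.ConStalk4

noncomputable section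

namespace GrothLib.LM28

attribute [local instance] OmegaUniv.stalkAlg

variable {X Y Z : Scheme.{u}} (p : X ⟶ Y) [Smooth p] (i : Z ⟶ X) [IsImmersion i] [QuasiCompact i]
  [LocallyOfFinitePresentation (i ≫ p)] {Ω : X.Modules} {d : OmegaSh.Der p Ω} (hd : OmegaSh.IsUniversal d)
  (φ : Omega.conormal i ⟶ (Scheme.Modules.pullback i).obj Ω) (hφ : OmegaSh.IsConormalDiff i d φ)

include hd hφ in
theorem exists_retraction (z : Z) (hz : z ∈ (i ≫ p).smoothLocus) :
    ∃ ρ : St z ((Scheme.Modules.pullback i).obj Ω) →ₗ[Z.presheaf.stalk z] St z (Omega.conormal i),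
      ∀ v, ρ (ConStalk4.stalkLin z φ v) = v := by
  letI : Algebra (Y.presheaf.stalk (p (i z))) (Z.presheaf.stalk z) := stalkAlg (i ≫ p) z
  haveI : IsScalarTower (Y.presheaf.stalk (p (i z))) (X.presheaf.stalk (i z)) (Z.presheaf.stalk z) :=
    IsScalarTower.of_algebraMap_eq fun a => stalkMap_comp_apply (p := p) i z a
  have hfsX : (p.stalkMap (i z)).hom.FormallySmooth :=
    Scheme.Hom.mem_smoothLocus.1 (p.smoothLocus_eq_top.ge trivial)
  haveI : Algebra.FormallySmooth (Y.presheaf.stalk (p (i z))) (X.presheaf.stalk (i z)) := hfsX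
  have hfsZ : ((i ≫ p).stalkMap z).hom.FormallySmooth := Scheme.Hom.mem_smoothLocus.1 hz
  haveI : Algebra.FormallySmooth (Y.presheaf.stalk (p (i z))) (Z.presheaf.stalk z) := hfsZ
  have hsurj : Function.Surjective (algebraMap (X.presheaf.stalk (i z)) (Z.presheaf.stalk z)) :=
    i.stalkMap_surjective z
  obtain ⟨l, hl⟩ := (Algebra.FormallySmooth.iff_split_injection (R := Y.presheaf.stalk (p (i z))) hsurj).1
    (inferInstance : Algebra.FormallySmooth (Y.presheaf.stalk (p (i z))) (Z.presheaf.stalk z))
  let I : Ideal (X.presheaf.stalk (i z)) := RingHom.ker (algebraMap (X.presheaf.stalk (i z)) (Z.presheaf.stalk z))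
  obtain ⟨g, hg⟩ : ∃ g : I.Cotangent → St z (Omega.conormal i), ∀ a : I, g (I.toCotangent a) = cls i z a := by
    refine ⟨fun m => cls i z (Function.surjInv I.toCotangent_surjective m), fun a => ?_⟩
    have h := (Ideal.toCotangent_eq I).1 (Function.surjInv_eq I.toCotangent_surjective (I.toCotangent a))
    refine sub_eq_zero.1 ?_
    rw [← map_sub]
    exact (cls_eq_zero_iff i z _).2 h
  have gadd : ∀ a b, g (a + b) = g a + g b := fun a b => by
    obtain ⟨a, rfl⟩ := I.toCotangent_surjective a
    obtain ⟨b, rfl⟩ := I.toCotangent_surjective b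
    rw [← map_add, hg, hg, hg]
    exact map_add (cls i z) _ _
  have gsmul : ∀ (c : X.presheaf.stalk (i z)) a, g (c • a) = (i.stalkMap z).hom c • g a := fun c a => by
    obtain ⟨a, rfl⟩ := I.toCotangent_surjective a
    rw [← map_smul, hg, hg]
    exact cls_smul i z c a
  let e := omegaEquiv i z hd
  let ρ : St z ((Scheme.Modules.pullback i).obj Ω) →ₗ[Z.presheaf.stalk z] St z (Omega.conormal i) :=
    { toFun := fun v => g (l (e v))
      map_add' := fun v w => by rw [map_add, map_add, gadd]
      map_smul' := fun c v => by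
        obtain ⟨c, rfl⟩ := i.stalkMap_surjective z c
        refine (congrArg (fun t => g (l t)) ((e.map_smul ((i.stalkMap z).hom c) v).trans
          (algebraMap_smul (Z.presheaf.stalk z) c (e v)))).trans ?_
        exact (congrArg g (l.map_smul c (e v))).trans (gsmul c (l (e v))) }
  refine ⟨ρ, fun v => ?_⟩
  obtain ⟨k, rfl⟩ := cls_surjective i z v
  show g (l (e (ConStalk4.stalkLin z φ (cls i z k)))) = cls i z k
  rw [omegaEquiv_conormalDiff i z hd φ hφ k]
  refine Eq.trans ?_ (hg k)
  refine congrArg g ?_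
  exact (congrArg l (KaehlerDifferential.kerCotangentToTensor_toCotangent (Y.presheaf.stalk (p (i z)))
    (X.presheaf.stalk (i z)) (Z.presheaf.stalk z) k).symm).trans (LinearMap.congr_fun hl _)

end GrothLib.LM28
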