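import Groth.Agent.Lib.LM28.HomIso
import Groth.Agent.Lib.HomSh.Coherent
import Groth.Agent.Lib.Cohom.LinearLES

/-!
# Functoriality of the concrete sheaf Hom in the source
-/

set_option autoImplicit false
set_option maxHeartbeats 800000
set_option linter.all false
set_option backward.isDefEq.respectTransparency false

universe u

open CategoryTheory CategoryTheory.Limits AlgebraicGeometry Opposite TopologicalSpace
open RefHull (homSh stalkMapₗ stalkMapₗ_germ evalStalk)

noncomputable section

namespace GrothLib.LM28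

variable {X : Scheme.{u}}

/-- Precomposition. -/
def precomp {A F : X.Modules} (a : A ⟶ F) (G : X.Modules) : homSh F G ⟶ homSh A G :=
  ⟨PresheafOfModules.homMk
    { app := fun U => AddCommGrpCat.ofHom
        (AddMonoidHom.mk' (fun g : Γ(homSh F G, U.unop) =>
          (⟨fun y => (g.1 y).comp (stalkMapₗ a y.1), fun V i m x => by
            obtain ⟨W, hW, j, n, w⟩ := RefHull.isLocSect_of_mem g V i (a.app V m) x
            refine ⟨W, hW, j, n, fun y => ?_⟩
            refine Eq.trans ?_ (w y)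
            show g.1 _ (stalkMapₗ a _ (A.presheaf.germ V _ _ m)) = _
            rw [stalkMapₗ_germ]⟩ : Γ(homSh A G, U.unop)))
          fun g g' => rfl)
      naturality := fun U V i => by ext g; rfl }
    (fun U r g => rfl)⟩

theorem precomp_app {A F : X.Modules} (a : A ⟶ F) (G : X.Modules) {U : X.Opens} (g : Γ(homSh F G, U)) (y : U) :
    ((precomp a G).app U g).1 y = (g.1 y).comp (stalkMapₗ a y.1) := rfl

theorem precomp_comp {A B F : X.Modules} (a : A ⟶ B) (b : B ⟶ F) (G : X.Modules) :
    precomp (a ≫ b) G = precomp b G ≫ precomp a G := by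
  refine Scheme.Modules.hom_ext _ _ fun U => AddCommGrpCat.ext fun g => Subtype.ext (funext fun y => LinearMap.ext fun v => ?_)
  show g.1 y (stalkMapₗ (a ≫ b) y.1 v) = g.1 y (stalkMapₗ b y.1 (stalkMapₗ a y.1 v))
  obtain ⟨V, hV, m, rfl⟩ := TopCat.Presheaf.exists_germ_eq A.presheaf v
  rw [stalkMapₗ_germ, stalkMapₗ_germ, stalkMapₗ_germ]
  rfl

theorem precomp_id (F G : X.Modules) : precomp (𝟙 F) G = 𝟙 _ := by
  refine Scheme.Modules.hom_ext _ _ fun U => AddCommGrpCat.ext fun g => Subtype.ext (funext fun y => LinearMap.ext fun v => ?_)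
  show g.1 y (stalkMapₗ (𝟙 F) y.1 v) = g.1 y v
  obtain ⟨V, hV, m, rfl⟩ := TopCat.Presheaf.exists_germ_eq F.presheaf v
  rw [stalkMapₗ_germ]
  rfl

theorem precomp_add {A F : X.Modules} (a b : A ⟶ F) (G : X.Modules) :
    precomp (a + b) G = precomp a G + precomp b G := by
  refine Scheme.Modules.hom_ext _ _ fun U => AddCommGrpCat.ext fun g => Subtype.ext (funext fun y => LinearMap.ext fun v => ?_)
  show g.1 y (stalkMapₗ (a + b) y.1 v) = g.1 y (stalkMapₗ a y.1 v) + g.1 y (stalkMapₗ b y.1 v)
  obtain ⟨V, hV, m, rfl⟩ := TopCat.Presheaf.exists_germ_eq A.presheaf v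
  rw [stalkMapₗ_germ, stalkMapₗ_germ, stalkMapₗ_germ, ← map_add, ← map_add]
  rfl

/-- Precomposition as an additive map. -/
def precompHom (A F G : X.Modules) : (A ⟶ F) →+ (homSh F G ⟶ homSh A G) :=
  AddMonoidHom.mk' (fun a => precomp a G) fun a b => precomp_add a b G

/-- Precomposition with a stalkwise retractible map is surjective on that stalk. -/
theorem stalk_surjective_precomp [IsLocallyNoetherian X] {A F : X.Modules} (hA : Coh.IsCoh A) (hF : Coh.IsCoh F)
    (G : X.Modules) (a : A ⟶ F) (z : X) (ρ : F.presheaf.stalk z →ₗ[X.presheaf.stalk z] A.presheaf.stalk z)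
    (hρ : ∀ v, ρ (stalkMapₗ a z v) = v) : Function.Surjective (QCoh.stalkLin (precomp a G) z) := by
  intro θ
  obtain ⟨θ', hθ'⟩ := ((HomSh.hasRel_of_isCoh hF).evalStalk_bijective G z).2 ((evalStalk A G z θ).comp ρ)
  refine ⟨θ', ((HomSh.hasRel_of_isCoh hA).evalStalk_bijective G z).1 (LinearMap.ext fun v => ?_)⟩
  obtain ⟨U, hU, g, rfl⟩ := TopCat.Presheaf.exists_germ_eq (homSh F G).presheaf θ'
  rw [QCoh.stalkLin_germ, RefHull.evalStalk_germ, precomp_app, LinearMap.comp_apply]
  rw [RefHull.evalStalk_germ] at hθ'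
  rw [hθ', LinearMap.comp_apply, hρ]

end GrothLib.LM28
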