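import Groth.Agent.Lib.LM28.Euler
import Groth.Agent.Lib.FibTriv28.Fibre
import Groth.Agent.Lib.Sect28.PrFibre

set_option autoImplicit false
set_option linter.all false
set_option backward.isDefEq.respectTransparency false

universe u

open CategoryTheory CategoryTheory.Limits AlgebraicGeometry Opposite TopologicalSpace

noncomputable section

namespace GrothLib.LM28

variable (k : Type u) [Field k] [IsAlgClosed k] {X : Scheme.{u}} [X.Over (Spec (CommRingCat.of k))]
  [IsProper (X ↘ Spec (CommRingCat.of k))] [IsIntegral X]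

theorem finrank_H0_free (e : ℕ) : Module.finrank k (Coh.HH X (FlatMod.freeMod X e) 0) = e := by
  refine FibTriv28.finrank_H0_freeMod ?_ e
  let g := X ↘ Spec (CommRingCat.of k)
  have h := Sect28.bijective_toGlobal k g
  have hc : ⇑(Coh.toGlobal g) = ⇑(g.app ⊤).hom ∘ ⇑(Scheme.ΓSpecIso (CommRingCat.of k)).inv.hom := rfl
  rw [hc] at h
  exact (Function.Bijective.of_comp_iff _ (ConcreteCategory.bijective_of_isIso _)).1 h

/-- `h⁰(C, A) = e`. -/
theorem finrank_H0_of_bijective {C : Scheme.{u}} [C.Over (Spec (CommRingCat.of k))] (i : C ⟶ X)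
    [IsClosedImmersion i] (hi : i ≫ (X ↘ Spec (CommRingCat.of k)) = C ↘ Spec (CommRingCat.of k))
    (A : C.Modules) [A.IsQuasicoherent] (e : ℕ) (lam : FlatMod.freeMod X e ⟶ (Coh.push i).obj A)
    (hlam : Function.Bijective (Sheaf.H.map ((SheafOfModules.toSheaf _).map lam) 0)) :
    Module.finrank k (Coh.HH C A 0) = e := by
  obtain ⟨ε⟩ := Snapper.nonempty_HH_linearEquiv_pushforward i hi A 0
  let E := LinearEquiv.ofBijective (Cohom.hhMap k lam 0) hlam
  exact ε.finrank_eq.trans (E.finrank_eq.symm.trans (finrank_H0_free k e))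

end GrothLib.LM28
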