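import Groth.Agent.Lib.LM28.HomIso
import Groth.Agent.Lib.LocFreeDual20.Ext
import Groth.Agent.Lib.SurfRR28.Basic
import Groth.Agent.Lib.SurfRR28.Projective
import Groth.Agent.Lib.SurfRR28.Effective
import Groth.Agent.Lib.CurveMult.SlopeSplit
import Groth.Agent.Lib.ConnH0.Basic

/-!
# Serre duality for bundles on a surface with trivial canonical module
-/

set_option autoImplicit false
set_option maxHeartbeats 800000
set_option linter.all false
set_option backward.isDefEq.respectTransparency false

universe u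

open CategoryTheory CategoryTheory.Limits AlgebraicGeometry Opposite TopologicalSpace
open GrothLib.LocFreeHom (iHom T)

noncomputable section

namespace GrothLib.LM28

attribute [local instance] LocFreeHom.hasSheafHom

variable {X : Scheme.{u}}

/-- `Hom(A ⊗ B, G) ≅ Hom(A, Hom(B, G))`. -/
theorem nonempty_hom_tensor (A B G : X.Modules) :
    Nonempty (iHom (CohB1.tensorMod A B) G ≅ iHom A (iHom B G)) := by
  let α := (DCoh.sheafHomAdj A).comp (DCoh.sheafHomAdj B)
  have β : (DCoh.tensorBi (X := X)).obj A ⋙ (DCoh.tensorBi (X := X)).obj B ≅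
      (DCoh.tensorBi (X := X)).obj (CohB1.tensorMod A B) :=
    Functor.isoWhiskerLeft _ (OX.tensorBraiding.app B).symm ≪≫
    Functor.isoWhiskerRight (OX.tensorBraiding.app A).symm _ ≪≫
    LocFreeDual20.flipCompIso A B ≪≫ OX.tensorBraiding.app (CohB1.tensorMod A B)
  exact ⟨(((α.ofNatIsoLeft β).rightAdjointUniq (DCoh.sheafHomAdj (CohB1.tensorMod A B))).app G).symm⟩

/-- `(E^∨ ⊗ F)^∨ ≅ Hom(F, E)`. -/
theorem nonempty_dual_end {F : X.Modules} (hF : FlatMod.IsFinLocFree F) :
    Nonempty (LocFreeDual20.dual (iHom F F) ≅ iHom F F) := by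
  haveI := LocFreeDual20.isIso_θ hF F
  let e : CohB1.tensorMod F (LocFreeDual20.dual F) ≅ iHom F F := asIso (LocFreeDual20.θ F F)
  obtain ⟨a⟩ := nonempty_hom_tensor F (LocFreeDual20.dual F) (Coh.structureModule X)
  haveI := CurveMult.isIso_bidualMap hF
  exact ⟨LocFreeHom.iHomCongr e (Iso.refl _) ≪≫ a ≪≫
    LocFreeHom.iHomCongr (Iso.refl F) (asIso (CurveMult.bidualMap F)).symm⟩

variable (k : Type u) [Field k] [X.Over (Spec (CommRingCat.of k))] [IsProper (X ↘ Spec (CommRingCat.of k))]
  [Smooth (X ↘ Spec (CommRingCat.of k))] [IsIntegral X] (hdim : topologicalKrullDim X = 2)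
  (hK : ExtPow.IsExtPow 2 (Omega.sheaf (X ↘ Spec (CommRingCat.of k))) (Coh.structureModule X))

include hdim in
theorem surface_data : SmoothOfRelativeDimension 2 (X ↘ Spec (CommRingCat.of k)) ∧
    ∃ (n : ℕ) (ι : X ⟶ CohB1.ProjSpace n k), IsClosedImmersion ι ∧
      ι ≫ CohB1.ProjSpace.toSpec n k = X ↘ Spec (CommRingCat.of k) := by
  have h : ∀ Z ∈ irreducibleComponents (X : Type u), topologicalKrullDim Z = 2 := fun Z hZ => by
    rw [irreducibleComponents_eq_singleton, Set.mem_singleton_iff] at hZ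
    subst hZ
    rw [IsHomeomorph.topologicalKrullDim_eq _ (Homeomorph.Set.univ X).isHomeomorph, hdim]
  exact ⟨SurfRR28.smoothOfRelativeDimension_two k h, SurfRR28.exists_closedImmersion k h⟩

include hdim hK in
/-- Serre duality. -/
theorem hh_dual {F : X.Modules} (hF : FlatMod.IsFinLocFree F) {p : ℕ} (hp : p ≤ 2) :
    Module.finrank k (Coh.HH X F p) = Module.finrank k (Coh.HH X (LocFreeDual20.dual F) (2 - p)) := by
  obtain ⟨hs, n, ι, hι, hιc⟩ := surface_data k hdim
  haveI := hs
  haveI := hι
  obtain ⟨e⟩ := DualSm27.nonempty_dual_HH k n 2 X ι hιc _ hK F hF p hp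
  rw [← Subspace.dual_finrank_eq, e.finrank_eq]

include hdim in
theorem euler_three {F : X.Modules} (hF : Coh.IsCoh F) : Curv2.euler k X F =
    (Module.finrank k (Coh.HH X F 0) : ℤ) - Module.finrank k (Coh.HH X F 1) + Module.finrank k (Coh.HH X F 2) := by
  obtain ⟨-, n, ι, hι, hιc⟩ := surface_data k hdim
  haveI := hι
  exact SurfRR28.euler_eq_three_terms k (hd := hdim.le) (HodgeIndex.isAmple_hyperplane ι) hF

include hdim hK in
theorem euler_dual {F : X.Modules} (hF : FlatMod.IsFinLocFree F) :
    Curv2.euler k X (LocFreeDual20.dual F) = Curv2.euler k X F := by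
  haveI := Euler.isNoetherian_of_proper (X := X) k
  have hD : FlatMod.IsFinLocFree (LocFreeDual20.dual F) :=
    LocFreeHom.isFinLocFree_iHom hF (FinCov.isFinLocFree_of_rank
      (Euler.isFinLocFreeOfRank_one_of_invertible Euler.isInvertible_structure))
  rw [euler_three k hdim (Euler.isCoh_of_isFinLocFree hD), euler_three k hdim (Euler.isCoh_of_isFinLocFree hF),
    hh_dual k hdim hK hF (p := 0) (by omega), hh_dual k hdim hK hF (p := 1) (by omega),
    hh_dual k hdim hK hF (p := 2) (by omega)]
  ring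

include hdim hK in
theorem hh2_end {F : X.Modules} (hF : FlatMod.IsFinLocFree F) :
    Module.finrank k (Coh.HH X (iHom F F) 2) = Module.finrank k (Coh.HH X (iHom F F) 0) := by
  obtain ⟨e⟩ := nonempty_dual_end hF
  rw [hh_dual k hdim hK (LocFreeHom.isFinLocFree_iHom hF hF) (p := 2) le_rfl]
  exact (Euler.hhEquiv (A := k) e 0).finrank_eq

include hdim hK in
theorem euler_structure_two [IsAlgClosed k] (hq : Module.finrank k (Coh.HH X (Coh.structureModule X) 1) = 0) :
    Curv2.euler k X (Coh.structureModule X) = 2 := by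
  haveI := Euler.isNoetherian_of_proper (X := X) k
  have hO := Euler.isInvertible_structure (X := X)
  obtain ⟨u⟩ := LocFreeHom.nonempty_iHom_unit_iso (Coh.structureModule X)
  rw [euler_three k hdim (Euler.isCoh_of_isInvertible hO), hq,
    hh_dual k hdim hK (Euler.isFinLocFree_of_isInvertible hO) (p := 2) le_rfl,
    (Euler.hhEquiv (A := k) u (2 - 2)).finrank_eq, ConnH0.finrank_H0_eq_one k]
  norm_num

end GrothLib.LM28
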