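import Groth.Agent.Lib.LM28.Gen

/-!
# Global sections of the sheaf of endomorphisms of a simple module
-/

set_option autoImplicit false
set_option maxHeartbeats 800000
set_option linter.all false
set_option backward.isDefEq.respectTransparency false

universe u

open CategoryTheory CategoryTheory.Limits AlgebraicGeometry Opposite TopologicalSpace
open RefHull (homSh stalkMapₗ stalkMapₗ_germ)

noncomputable section

namespace GrothLib.LM28

variable {X : Scheme.{u}}

/-- The morphism given by a global section of the sheaf Hom. -/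
def homOfGlobal (F G : X.Modules) (g : Γ(homSh F G, ⊤)) : F ⟶ G :=
  ⟨PresheafOfModules.homMk
    { app := fun U => AddCommGrpCat.ofHom
        ((appB F G U.unop).flip ((homSh F G).presheaf.map (homOfLE (le_top : U.unop ≤ ⊤)).op g)).toAddMonoidHom
      naturality := fun U V i => by
        ext m
        refine Eq.trans ?_ (appB_res F G (leOfHom i.unop) m _).symm
        show appB F G V.unop _ ((homSh F G).presheaf.map _ g) = appB F G V.unop _
          ((homSh F G).presheaf.map _ ((homSh F G).presheaf.map _ g))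
        rw [← ConcreteCategory.comp_apply, ← Functor.map_comp]
        rfl }
    (fun U r m => ((appB F G U.unop).flip _).map_smul r m)⟩

theorem germ_homOfGlobal (F G : X.Modules) (g : Γ(homSh F G, ⊤)) {U : X.Opens} (m : Γ(F, U)) (y : X) (hy : y ∈ U) :
    G.presheaf.germ U y hy ((homOfGlobal F G g).app U m) = g.1 ⟨y, trivial⟩ (F.presheaf.germ U y hy m) := by
  show G.presheaf.germ U y hy (appV F G _ m) = _
  rw [germ_appV, map_val]

variable (k : Type u) [Field k] [X.Over (Spec (CommRingCat.of k))]

/-- A simple module has at most one-dimensional space of endomorphisms. -/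
theorem finrank_H0_homSh_le_one (F : X.Modules)
    (h : ∀ φ : F ⟶ F, ∃ c : k, ∀ (V : X.Opens) (s : F.val.obj (Opposite.op V)),
      (φ.val.app (Opposite.op V)) s =
        (X.ringCatSheaf.obj.map (homOfLE (le_top : V ≤ ⊤)).op
          (Coh.toGlobal (X ↘ Spec (CommRingCat.of k)) c : X.ringCatSheaf.obj.obj (Opposite.op ⊤))) • s) :
    Module.finrank k (Coh.HH X (homSh F F) 0) ≤ 1 := by
  refine finrank_le_one ((ProjCoh.H0top (homSh F F)).symm (RefHull.ofHom (𝟙 F) ⊤)) fun x => ?_
  obtain ⟨c, hc⟩ := h (homOfGlobal F F (ProjCoh.H0top (homSh F F) x))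
  refine ⟨c, (ProjCoh.H0top (homSh F F)).injective ?_⟩
  rw [ProjCoh.H0top_smul, AddEquiv.apply_symm_apply]
  refine Subtype.ext (funext fun y => LinearMap.ext fun v => ?_)
  obtain ⟨U, hU, m, rfl⟩ := TopCat.Presheaf.exists_germ_eq F.presheaf v
  refine Eq.trans ?_ (germ_homOfGlobal F F (ProjCoh.H0top (homSh F F) x) m y.1 hU)
  show X.presheaf.germ ⊤ y.1 y.2 _ • stalkMapₗ (𝟙 F) y.1 (F.presheaf.germ U y.1 hU m) = _
  rw [stalkMapₗ_germ, ← TopCat.Presheaf.germ_res_apply X.presheaf (homOfLE (le_top : U ≤ ⊤)) y.1 hU]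
  refine (Mero.germ_smul F U y.1 hU _ m).symm.trans ?_
  exact congrArg (F.presheaf.germ U y.1 hU) (hc U m).symm

end GrothLib.LM28
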