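import Groth.Agent.Lib.LM28.Dual
import Groth.Agent.Lib.CurveMult.DualDeg
import Groth.Agent.Lib.CurveMult.EtaleEuler
import Groth.Agent.Lib.OX.ProjClosed
import Groth.Agent.Lib.SurfRR28.Canonical
import Groth.Agent.Lib.SurfRR28.Proper
import Groth.Agent.Lib.HypSq28.Seq
import Groth.Agent.Lib.K0Sub.Dev
import Groth.Agent.Lib.ModelK.Rank
import Groth.Agent.Lib.DecSh20.Parabolic
import Groth.Agent.S15848
import Groth.Agent.S14486

/-!
# Numerical invariants of Lazarsfeld–Mukai bundles
-/

set_option autoImplicit false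
set_option maxHeartbeats 1600000
set_option linter.all false
set_option backward.isDefEq.respectTransparency false

universe u

open CategoryTheory CategoryTheory.Limits AlgebraicGeometry Opposite TopologicalSpace
open GrothLib.LocFreeHom (iHom T)

noncomputable section

namespace GrothLib.LM28

attribute [local instance] LocFreeHom.hasSheafHom
attribute [local irreducible] Curv2.euler

section General

variable (k : Type u) [Field k] {X : Scheme.{u}} [X.Over (Spec (CommRingCat.of k))]
  [IsProper (X ↘ Spec (CommRingCat.of k))]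
  {C : Scheme.{u}} [C.Over (Spec (CommRingCat.of k))]
  (i : C ⟶ X) [IsClosedImmersion i] (hi : i ≫ (X ↘ Spec (CommRingCat.of k)) = C ↘ Spec (CommRingCat.of k))

include hi in
/-- `χ(D ⊗ i_* A) = χ(i^* D ⊗ A)`. -/
theorem euler_tF_push {D : X.Modules} (hD : FlatMod.IsFinLocFree D) {A : C.Modules} (hA : Coh.IsCoh A) :
    Curv2.euler k X ((Euler.tF D).obj ((Coh.push i).obj A)) =
      Curv2.euler k C ((Euler.tF ((Scheme.Modules.pullback i).obj D)).obj A) := by
  haveI := Euler.isNoetherian_of_proper (X := X) k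
  haveI : IsLocallyNoetherian C := LocallyOfFiniteType.isLocallyNoetherian i
  have h1 : Coh.IsCoh ((Euler.tF ((Scheme.Modules.pullback i).obj D)).obj A) :=
    Euler.isCoh_tF hA (OX.isFinLocFree_pullback i hD)
  have h2 : Coh.IsCoh ((T ((Scheme.Modules.pullback i).obj D)).obj A) :=
    QCoh.isCoh_of_iso (LocFreeDual20.br A ((Scheme.Modules.pullback i).obj D)) h1
  haveI := h2.1
  haveI := OX.isIso_projHom_closed i D A
  refine (Euler.euler_of_iso k (LocFreeDual20.br ((Coh.push i).obj A) D ≪≫
    asIso (ProjFormula.projHom i D A))).trans ?_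
  refine (Snapper.euler_pushforward i hi _).trans ?_
  exact Euler.euler_of_iso k (LocFreeDual20.br ((Scheme.Modules.pullback i).obj D) A)

include hi in
/-- `χ(F) = χ(I ⊗ F) + χ(F|_C)`. -/
theorem euler_restrict {F : X.Modules} (hF : FlatMod.IsFinLocFree F)
    (hI : Coh.IsCoh (ClSub.idealMod i.ker)) :
    Curv2.euler k X F = Curv2.euler k X ((Euler.tF (ClSub.idealMod i.ker)).obj F) +
      Curv2.euler k C ((Scheme.Modules.pullback i).obj F) := by
  haveI := Euler.isNoetherian_of_proper (X := X) k
  haveI : IsLocallyNoetherian C := LocallyOfFiniteType.isLocallyNoetherian i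
  let Φ := (DCoh.tensorBi (X := X)).flip.obj F
  have hS : (ShortComplex.mk (ClSub.idealModι i.ker) (ClSub.toSubscheme i.ker) (kernel.condition _)).ShortExact :=
    ArSurf29.shortExact_ideal i.ker
  have hT : ((ShortComplex.mk (ClSub.idealModι i.ker) (ClSub.toSubscheme i.ker)
      (kernel.condition _)).map Φ).ShortExact :=
    OX.tensor_map_shortExact (OX.flat_of_isFinLocFree hF) hS
  have hFC := OX.isFinLocFree_pullback i hF
  have hFCc := Euler.isCoh_of_isFinLocFree hFC
  haveI := hFCc.1
  have c1 : Coh.IsCoh (Φ.obj (ClSub.idealMod i.ker)) := Euler.isCoh_tF hI hF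
  have c2 : Coh.IsCoh (Φ.obj (Coh.structureModule X)) :=
    Euler.isCoh_tF (Euler.isCoh_of_isInvertible (Euler.isInvertible_structure (X := X))) hF
  have c3' : Coh.IsCoh (ClSub.quotMod i.ker) := QCoh.pushUnit_isCoh i.ker.subschemeι
  have c3 : Coh.IsCoh (Φ.obj (ClSub.quotMod i.ker)) := Euler.isCoh_tF c3' hF
  have h := DecSh20.euler_add k hT (by exact c1) (by exact c2) (by exact c3)
  simp only [ShortComplex.map_X₁, ShortComplex.map_X₂, ShortComplex.map_X₃] at h
  have a : Curv2.euler k X (Φ.obj (Coh.structureModule X)) = Curv2.euler k X F :=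
    Euler.euler_of_iso k ((OX.tensorUnitNatIso (X := X)).app F)
  have b : Curv2.euler k X (Φ.obj (ClSub.idealMod i.ker)) =
      Curv2.euler k X ((Euler.tF (ClSub.idealMod i.ker)).obj F) :=
    Euler.euler_of_iso k (LocFreeDual20.br (ClSub.idealMod i.ker) F)
  obtain ⟨q⟩ := CMReg.nonempty_tensorMod_push i F hF
  have c : Curv2.euler k X (Φ.obj (ClSub.quotMod i.ker)) = Curv2.euler k C ((Scheme.Modules.pullback i).obj F) :=
    (Euler.euler_of_iso k (Φ.mapIso (ArSurf29.pushUnitIsoQuot i).symm ≪≫ q)).trans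
      (Snapper.euler_pushforward i hi _)
  linarith

end General

variable (k : Type u) [Field k] [IsAlgClosed k] [CharZero k]
    (X : Scheme.{u}) [X.Over (Spec (CommRingCat.of k))] [IsIntegral X]
    [Smooth (X ↘ Spec (CommRingCat.of k))] (hdim : topologicalKrullDim X = 2)
    [IsProper (X ↘ Spec (CommRingCat.of k))]
    (hK : ExtPow.IsExtPow 2 (Omega.sheaf (X ↘ Spec (CommRingCat.of k))) (Coh.structureModule X))
    (hq : Module.finrank k (Coh.HH X (Coh.structureModule X) 1) = 0)
    (C : Scheme.{u}) [C.Over (Spec (CommRingCat.of k))] [IsIntegral C]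
    [Smooth (C ↘ Spec (CommRingCat.of k))] (hC : topologicalKrullDim C = 1)
    (i : C ⟶ X) [IsClosedImmersion i] (hi : i ≫ (X ↘ Spec (CommRingCat.of k)) = C ↘ Spec (CommRingCat.of k))
    (A : C.Modules) (hA : PicF.IsInvertible A) (e : ℕ)
    (lam : FlatMod.freeMod X e ⟶ (Coh.push i).obj A) [Epi lam]

include k hdim hC in
/-- The kernel is a bundle of rank `e`. -/
theorem kernel_bundle (hA : PicF.IsInvertible A) : FlatMod.IsFinLocFreeOfRank e (kernel lam) := by
  haveI := Euler.isNoetherian_of_proper (X := X) k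
  haveI : IsLocallyNoetherian C := LocallyOfFiniteType.isLocallyNoetherian i
  have hfl := Groth.Agent.S15848.result k X hdim C i hC A (Euler.isCoh_of_isInvertible hA)
    (DecSh20.isTorsionFree_of_locFree (Euler.isFinLocFreeOfRank_one_of_invertible hA)) (FlatMod.freeMod X e)
    (fun x => ⟨⊤, e, trivial, ⟨DCoh.restrictFreeModIso _ e⟩⟩) lam
  obtain ⟨r, hr⟩ := ModelK.exists_rank_connected hfl
  have hfree : FlatMod.IsFinLocFreeOfRank e (FlatMod.freeMod X e) := fun x =>
    ⟨⊤, trivial, ⟨DCoh.restrictFreeModIso _ e⟩⟩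
  have hη : genericPoint X ∉ CohB1.support ((Coh.push i).obj A) := fun h => by
    obtain ⟨c, hc⟩ := QCoh.support_pushforward_subset_range i A h
    have hall : Set.range i = Set.univ := by
      have := i.isClosedEmbedding.isClosed_range.closure_subset_iff.2
        (Set.singleton_subset_iff.2 (show genericPoint X ∈ Set.range i from ⟨c, hc⟩))
      rw [genericPoint_spec X] at this
      exact Set.univ_subset_iff.1 this
    have h2 : topologicalKrullDim X = 1 := by
      rw [← hC]
      exact (IsHomeomorph.topologicalKrullDim_eq _ ((isHomeomorph_iff_isEmbedding_surjective).2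
        ⟨i.isClosedEmbedding.isEmbedding, Set.range_eq_univ.1 hall⟩)).symm
    exact absurd (h2.symm.trans hdim) (by norm_num)
  have hS : (ShortComplex.mk (kernel.ι lam) lam (kernel.condition lam)).ShortExact :=
    ShortComplex.ShortExact.mk' (ShortComplex.exact_of_f_is_kernel _ (kernelIsKernel lam)) inferInstance inferInstance
  have h := Euler.grank_additive hS (Euler.isCoh_of_isFinLocFree (FinCov.isFinLocFree_of_rank hfree))
  rw [Euler.grank_of_locFree hfree, Euler.grank_of_locFree hr, Euler.grank_eq_zero_of_notMem hη] at h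
  obtain rfl : e = r := by omega
  exact hr

include hdim hK hq hC hi hA in
/-- The Euler characteristic of the endomorphisms. -/
theorem euler_end (h0 : Module.finrank k (Coh.HH C A 0) = e) :
    Curv2.euler k X (iHom (kernel lam) (kernel lam)) =
      2 - 2 * ((Curv2.genus k C : ℤ) -
        (Module.finrank k (Coh.HH C A 0) : ℤ) * (Module.finrank k (Coh.HH C A 1) : ℤ)) := by
  haveI := Euler.isNoetherian_of_proper (X := X) k
  haveI : IsProper (C ↘ Spec (CommRingCat.of k)) := hi ▸ inferInstance
  haveI := Euler.isNoetherian_of_proper (X := C) k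
  haveI : CurveRR.RegCurve C := CurveRR.regCurve_of_smooth (C ↘ Spec (CommRingCat.of k)) hC
  have hF := kernel_bundle k X hdim C hC i A e lam hA
  set F := kernel lam with hFdef
  have hFl := FinCov.isFinLocFree_of_rank hF
  have hFc := Euler.isCoh_of_isFinLocFree hFl
  have hOX := Euler.isInvertible_structure (X := X)
  have hOC := Euler.isInvertible_structure (X := C)
  have hAc := Euler.isCoh_of_isInvertible hA
  haveI := hAc.1
  have hfree : FlatMod.IsFinLocFree (FlatMod.freeMod X e) := fun x => ⟨⊤, e, trivial, ⟨DCoh.restrictFreeModIso _ e⟩⟩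
  have hfc := Euler.isCoh_of_isFinLocFree hfree
  have hPc : Coh.IsCoh ((Coh.push i).obj A) := K0Sub.isCoh_push i hAc
  have hX2 := euler_structure_two k hdim hK hq
  have pushE : ∀ (M : C.Modules), Coh.IsCoh M → Curv2.euler k X ((Coh.push i).obj M) = Curv2.euler k C M :=
    fun M hM => by haveI := hM.1; exact Snapper.euler_pushforward i hi M
  -- `χ(F)`
  have hS : (ShortComplex.mk (kernel.ι lam) lam (kernel.condition lam)).ShortExact :=
    ShortComplex.ShortExact.mk' (ShortComplex.exact_of_f_is_kernel _ (kernelIsKernel lam)) inferInstance inferInstance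
  have eF : (e : ℤ) * 2 = Curv2.euler k X F + Curv2.euler k C A := by
    rw [← hX2, ← CurveMult.euler_freeMod_structure k e, ← pushE A hAc]
    exact DecSh20.euler_add k hS hFc hfc hPc
  -- the curve
  haveI : Nonempty i.ker.subscheme := (IsIntegral.nonempty (X := C)).map i.toImage
  haveI : IsIntegral i.ker.subscheme := isIntegral_of_isOpenImmersion (inv i.toImage)
  have hCd : topologicalKrullDim (i.ker.support : Set X) = 1 := by
    rw [← hC, i.isClosedEmbedding.isEmbedding.toHomeomorph.isHomeomorph.topologicalKrullDim_eq,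
      i.support_ker, i.isClosedEmbedding.isClosed_range.closure_eq]
  have hI := HodgeIndex.inv_curve k hdim inferInstance hCd
  obtain ⟨Minv, hMinv, hMc⟩ : ∃ (M₀ : X.Modules) (h : PicF.IsInvertible M₀),
      Cube.clsMod h = (Cube.clsMod hI)⁻¹ :=
    ⟨_, HodgeIndex.isInv_rep _, HodgeIndex.cls_rep _⟩
  obtain ⟨hs, N, ι, hι, hιc⟩ := surface_data k hdim
  haveI := Euler.finiteDimensional_HH k (Euler.isCoh_of_isInvertible hOX) 1
  have hq0 : Subsingleton (Coh.HH X (Coh.structureModule X) 1) := Module.finrank_zero_iff.1 hq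
  have hCC := (Groth.Agent.S14486.result k X hdim (HodgeIndex.regular_of_smooth k) ⟨N, ι, hι, hιc⟩ hK
    hq0 C i hC (HodgeIndex.regular_of_smooth k) Minv
    ((Cube.clsMod_eq_one_iff (Ample.isInvertible_tensorMod hMinv hI)).1 (by
      rw [Cube.clsMod_tensorMod hMinv hI, hMc, inv_mul_cancel]))).1
  have hgen : (letI : C.Over (Spec (CommRingCat.of k)) := ⟨i ≫ (X ↘ (Spec (CommRingCat.of k)))⟩
      Curv2.genus k C) = Curv2.genus k C := by
    congr 1
    rw [hi]
    rfl
  rw [hgen, SurfRR28.intNum_eq_isect' k hdim.le hI hI] at hCC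
  have key : ∀ z : Cube.Pic X, HodgeIndex.chi k z = HodgeIndex.chi k (z * Cube.clsMod hI) +
      HodgeIndex.chi k (Cube.pull i z) := fun z => (HypSq28.seq k i hi hI hC.le z).2.2.2.2.2.2
  have hIC := Ample.isInvertible_pullback i hI
  have k1 := key 1
  have k2 := key (Cube.clsMod hI)
  have hOX1 : Cube.clsMod hOX = 1 := SurfRR28.clsMod_structure
  have hOC1 : Cube.clsMod hOC = 1 := (Cube.clsMod_eq_one_iff hOC).2 ⟨Iso.refl _⟩
  rw [one_mul, map_one, ← hOX1, ← HodgeIndex.euler_eq_chi k hOX, hX2, ← HodgeIndex.euler_eq_chi k hI,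
    ← hOC1, ← HodgeIndex.euler_eq_chi k hOC] at k1
  rw [← Cube.clsMod_pullback i hI, ← HodgeIndex.euler_eq_chi k hI, ← HodgeIndex.euler_eq_chi k hIC] at k2
  rw [HodgeIndex.isect, ← hOX1, ← HodgeIndex.euler_eq_chi k hOX, hX2, ← HodgeIndex.euler_eq_chi k hI] at hCC
  have hgC : Curv2.euler k C (Coh.structureModule C) = 1 - (Curv2.genus k C : ℤ) := by
    rw [Euler.euler_structure k hC.le, ConnH0.finrank_H0_eq_one k]
    push_cast
    ring
  -- degree of the restriction of `F`
  have hFI : Curv2.euler k X ((Euler.tF (ClSub.idealMod i.ker)).obj (FlatMod.freeMod X e)) =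
      (e : ℤ) * Curv2.euler k X (ClSub.idealMod i.ker) := by
    have h := Euler.euler_freeMod k (Euler.isFinLocFreeOfRank_one_of_invertible hI) e
    rw [CurveMult.euler_freeMod_structure k e] at h
    simp only [Curv2.deg] at h
    push_cast at h
    linarith
  have hT : ((ShortComplex.mk (kernel.ι lam) lam (kernel.condition lam)).map (Euler.tF (ClSub.idealMod i.ker))).ShortExact :=
    OX.tensor_map_shortExact (OX.flat_of_isFinLocFree (Euler.isFinLocFree_of_isInvertible hI)) hS
  have eFI : (e : ℤ) * Curv2.euler k X (ClSub.idealMod i.ker) =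
      Curv2.euler k X ((Euler.tF (ClSub.idealMod i.ker)).obj F) +
        (Curv2.euler k C A + Curv2.euler k C ((Scheme.Modules.pullback i).obj (ClSub.idealMod i.ker)) -
          Curv2.euler k C (Coh.structureModule C)) := by
    have c1 : Coh.IsCoh ((Euler.tF (ClSub.idealMod i.ker)).obj F) := Euler.isCoh_tF hFc (Euler.isFinLocFree_of_isInvertible hI)
    have c2 : Coh.IsCoh ((Euler.tF (ClSub.idealMod i.ker)).obj (FlatMod.freeMod X e)) := Euler.isCoh_tF hfc (Euler.isFinLocFree_of_isInvertible hI)
    have c3 : Coh.IsCoh ((Euler.tF (ClSub.idealMod i.ker)).obj ((Coh.push i).obj A)) := Euler.isCoh_tF hPc (Euler.isFinLocFree_of_isInvertible hI)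
    have hx := DecSh20.euler_add k hT (by exact c1) (by exact c2) (by exact c3)
    simp only [ShortComplex.map_X₁, ShortComplex.map_X₂, ShortComplex.map_X₃] at hx
    have hy := euler_tF_push k i hi (Euler.isFinLocFree_of_isInvertible hI) hAc
    have h := CurveMult.deg_tensorMod k hC.le hIC hA
    simp only [Curv2.deg, Nat.cast_one, one_mul] at h
    have hz : Curv2.euler k C ((Euler.tF ((Scheme.Modules.pullback i).obj (ClSub.idealMod i.ker))).obj A) =
        Curv2.euler k C (CohB1.tensorMod ((Scheme.Modules.pullback i).obj (ClSub.idealMod i.ker)) A) :=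
      Euler.euler_of_iso k (LocFreeDual20.br A ((Scheme.Modules.pullback i).obj (ClSub.idealMod i.ker)))
    linarith
  have hFC := OX.isFinLocFreeOfRank_pullback i hF
  have eFC : Curv2.euler k X F = Curv2.euler k X ((Euler.tF (ClSub.idealMod i.ker)).obj F) +
      Curv2.euler k C ((Scheme.Modules.pullback i).obj F) :=
    euler_restrict k i hi hFl (Euler.isCoh_of_isInvertible hI)
  -- the dual on the curve
  set D := LocFreeDual20.dual F with hDdef
  have hDl : FlatMod.IsFinLocFree D :=
    LocFreeHom.isFinLocFree_iHom hFl (Euler.isFinLocFree_of_isInvertible hOX)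
  haveI := LocFreeHom.isIso_cmp i hFl (Coh.structureModule X)
  let eD : (Scheme.Modules.pullback i).obj D ≅ LocFreeDual20.dual ((Scheme.Modules.pullback i).obj F) :=
    asIso (LocFreeHom.cmp i F (Coh.structureModule X)) ≪≫
      LocFreeHom.iHomCongr (Iso.refl _) (OX.pullUnitIso i)
  obtain ⟨hDC, hDd⟩ := CurveMult.dual_data k hFC
  -- `χ(F^∨ ⊗ F)`
  haveI := LocFreeDual20.isIso_θ hFl F
  rw [← Euler.euler_of_iso k (asIso (LocFreeDual20.θ F F))]
  have hU : ((ShortComplex.mk (kernel.ι lam) lam (kernel.condition lam)).map (Euler.tF D)).ShortExact :=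
    OX.tensor_map_shortExact (OX.flat_of_isFinLocFree hDl) hS
  have c1 : Coh.IsCoh ((Euler.tF D).obj F) := Euler.isCoh_tF hFc hDl
  have c2 : Coh.IsCoh ((Euler.tF D).obj (FlatMod.freeMod X e)) := Euler.isCoh_tF hfc hDl
  have c3 : Coh.IsCoh ((Euler.tF D).obj ((Coh.push i).obj A)) := Euler.isCoh_tF hPc hDl
  have eEnd := DecSh20.euler_add k hU (by exact c1) (by exact c2) (by exact c3)
  simp only [ShortComplex.map_X₁, ShortComplex.map_X₂, ShortComplex.map_X₃] at eEnd
  have hD2 : Curv2.euler k X ((Euler.tF D).obj (FlatMod.freeMod X e)) = (e : ℤ) * Curv2.euler k X F := by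
    obtain ⟨r, hr⟩ := ModelK.exists_rank_connected hDl
    have h := Euler.euler_freeMod k hr e
    rw [CurveMult.euler_freeMod_structure k e] at h
    simp only [Curv2.deg] at h
    rw [← euler_dual k hdim hK hFl, ← hDdef]
    linear_combination h
  obtain ⟨U, hU', ⟨φ⟩⟩ := Euler.exists_trivial_genericPoints k (Euler.isFinLocFreeOfRank_one_of_invertible hA)
  have hDA := Euler.euler_tF k hC.le hDC hAc hU' φ
  have e3 : Curv2.euler k X ((Euler.tF D).obj ((Coh.push i).obj A)) =
      Curv2.euler k C ((Euler.tF (LocFreeDual20.dual ((Scheme.Modules.pullback i).obj F))).obj A) :=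
    (euler_tF_push k i hi hDl hAc).trans
      (Euler.euler_of_iso k (((DCoh.tensorBi (X := C)).flip.mapIso eD).app A))
  rw [hD2, e3, hDA, hDd] at eEnd
  simp only [Curv2.deg] at eEnd
  have h1 : (Module.finrank k (Coh.HH C A 1) : ℤ) = e - Curv2.euler k C A := by
    haveI := hAc.1
    rw [Euler.euler_eq_sub k hC.le A, h0]
    ring
  rw [h0, h1]
  push_cast at eEnd
  show Curv2.euler k X ((Euler.tF D).obj F) = _
  have hdI : Curv2.euler k C ((Scheme.Modules.pullback i).obj (ClSub.idealMod i.ker)) -
      Curv2.euler k C (Coh.structureModule C) = - (2 * (Curv2.genus k C : ℤ) - 2) := by linarith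
  have hdF : Curv2.euler k C ((Scheme.Modules.pullback i).obj F) - (e : ℤ) * Curv2.euler k C (Coh.structureModule C) =
      - (2 * (Curv2.genus k C : ℤ) - 2) := by linear_combination - eF + eFI - eFC + (e : ℤ) * k1 + hdI
  linear_combination -eEnd - (e : ℤ) * eF + hdF

end GrothLib.LM28
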