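import Groth.Agent.Lib.LM28.Basic
import Groth.Agent.Lib.CurveRR.Stable
import Groth.Agent.Lib.CurveMult.TwistHom
import Groth.Agent.Lib.FunMor20.Scalar
import Groth.Agent.Lib.NegTwist.H0

/-!
# Replacing an invertible sheaf by its generated part
-/

set_option autoImplicit false
set_option maxHeartbeats 800000
set_option linter.all false
set_option backward.isDefEq.respectTransparency false

universe u

open CategoryTheory CategoryTheory.Limits AlgebraicGeometry Opposite TopologicalSpace

noncomputable section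

namespace GrothLib.LM28

variable (k : Type u) [Field k] [IsAlgClosed k]

include k in
/-- The part generated by global sections. -/
theorem exists_generated {C : Scheme.{u}} [C.Over (Spec (CommRingCat.of k))] [IsIntegral C]
    [IsProper (C ↘ Spec (CommRingCat.of k))] [CurveRR.RegCurve C] {A : C.Modules} (hA : PicF.IsInvertible A)
    (h0 : 0 < Module.finrank k (Coh.HH C A 0)) :
    ∃ (I : C.Modules) (_ : PicF.IsInvertible I) (e : ℕ) (p : FlatMod.freeMod C e ⟶ I), Epi p ∧
      Module.finrank k (Coh.HH C I 0) = e ∧ Module.finrank k (Coh.HH C A 0) = e ∧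
      Module.finrank k (Coh.HH C A 1) ≤ Module.finrank k (Coh.HH C I 1) ∧
      ∀ z : Γ(I, ⊤), ∃ c : Fin e → k, z = ∑ l, (show Γ(C, ⊤) from
        Coh.toGlobal (C ↘ Spec (CommRingCat.of k)) (c l)) •
          (Sigma.ι (fun _ : Fin e => Coh.structureModule C) l ≫ p).app ⊤ (FinCov.one C ⊤) := by
  haveI := Euler.isNoetherian_of_proper (X := C) k
  have hd : topologicalKrullDim C ≤ 1 := CurveRR.RegCurve.dim.le
  have hAc := Euler.isCoh_of_isInvertible hA
  haveI := Euler.finiteDimensional_HH k hAc 0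
  obtain ⟨e, he⟩ : ∃ e, Module.finrank k (Coh.HH C A 0) = e := ⟨_, rfl⟩
  let b := Module.finBasisOfFinrankEq k (Coh.HH C A 0) he
  let s : Fin e → Γ(A, ⊤) := fun l => ProjCoh.H0top A (b l)
  let f : FlatMod.freeMod C e ⟶ A := Sigma.desc fun l => FinCov.homOfSection (s l)
  have hfree : FlatMod.IsFinLocFree (FlatMod.freeMod C e) := fun x => ⟨⊤, e, trivial, ⟨DCoh.restrictFreeModIso _ e⟩⟩
  have hAl := Euler.isFinLocFreeOfRank_one_of_invertible hA
  obtain ⟨K, I, a, p, j, rK, rI, -, hp, hj, hpj, -, -, hIf, -, -, h0', -⟩ :=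
    Euler.exists_image_data k CurveRR.pid_stalk hfree (FinCov.isFinLocFree_of_rank hAl) f
  haveI := hj
  have hIc := Euler.isCoh_of_isFinLocFree (FinCov.isFinLocFree_of_rank hIf)
  have hsj : ∀ l, j.app ⊤ ((Sigma.ι (fun _ : Fin e => Coh.structureModule C) l ≫ p).app ⊤ (FinCov.one C ⊤)) = s l := by
    intro l
    show ((Sigma.ι (fun _ : Fin e => Coh.structureModule C) l ≫ p) ≫ j).app ⊤ _ = _
    rw [Category.assoc, hpj]
    show (Sigma.ι (fun _ : Fin e => Coh.structureModule C) l ≫ f).app ⊤ _ = _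
    simp only [f, Sigma.ι_desc]
    rw [FinCov.homOfSection_one]
    exact congr($(A.presheaf.map_id _) (s l))
  have hle : rI ≤ 1 := by
    have := Euler.grank_le_of_mono j hAc
    rwa [Euler.grank_of_locFree hIf, Euler.grank_of_locFree hAl] at this
  have hne : rI ≠ 0 := fun h => by
    obtain ⟨l⟩ : Nonempty (Fin e) := ⟨⟨0, by omega⟩⟩
    have : s l = 0 := by
      have h1 := hsj l
      rw [← h1]
      show ((Sigma.ι (fun _ : Fin e => Coh.structureModule C) l ≫ p) ≫ j).app ⊤ _ = 0
      rw [Category.assoc, hpj, h0' h, comp_zero]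
      rfl
    exact b.ne_zero l ((ProjCoh.H0top A).injective (this.trans (map_zero _).symm))
  obtain rfl : rI = 1 := by omega
  have hI := CurveMult.isInvertible_of_rank_one hIf
  have key : ∀ z : Γ(I, ⊤), ∃ c : Fin e → k, z = ∑ l, (show Γ(C, ⊤) from
      Coh.toGlobal (C ↘ Spec (CommRingCat.of k)) (c l)) •
        (Sigma.ι (fun _ : Fin e => Coh.structureModule C) l ≫ p).app ⊤ (FinCov.one C ⊤) := by
    intro z
    refine ⟨fun l => b.repr ((ProjCoh.H0top A).symm (j.app ⊤ z)) l, Cohom.app_injective_of_mono j ⊤ ?_⟩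
    rw [map_sum]
    have h1 := congrArg (ProjCoh.H0top A) (b.sum_repr ((ProjCoh.H0top A).symm (j.app ⊤ z)))
    rw [map_sum, AddEquiv.apply_symm_apply] at h1
    refine h1.symm.trans (Finset.sum_congr rfl fun l _ => ?_)
    refine (ProjCoh.H0top_smul A _ (b l)).trans ?_
    rw [Scheme.Modules.Hom.app_smul, hsj]
  haveI := Euler.finiteDimensional_HH k hIc 0
  haveI := Euler.finiteDimensional_HH k hIc 1
  have hI0 : Module.finrank k (Coh.HH C I 0) = e := by
    refine le_antisymm ?_ ?_
    · rw [← he]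
      exact LinearMap.finrank_le_finrank_of_injective (NegTwist.injective_hhMap_zero k j)
    · rw [← he]
      refine LinearMap.finrank_le_finrank_of_surjective (f := Cohom.hhMap k j 0) ?_
      intro y
      have hspan : y ∈ LinearMap.range (Cohom.hhMap k j 0) := by
        rw [← b.sum_repr y]
        refine Submodule.sum_mem _ fun l _ => Submodule.smul_mem _ _
          ⟨(ProjCoh.H0top I).symm ((Sigma.ι (fun _ : Fin e => Coh.structureModule C) l ≫ p).app ⊤ (FinCov.one C ⊤)), ?_⟩
        refine (ProjCoh.H0top A).injective ?_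
        rw [NegTwist.H0top_hhMap, AddEquiv.apply_symm_apply, hsj]
      exact hspan
  have hdeg := (Euler.degree_le_of_mono k hd j hIc hAc
    (by rw [Euler.grank_of_locFree hIf, Euler.grank_of_locFree hAl])).1
  simp only [Euler.degree, Euler.grank_of_locFree hIf, Euler.grank_of_locFree hAl] at hdeg
  haveI := hAc.1
  haveI := hIc.1
  have e1 := Euler.euler_eq_sub k hd A
  have e2 := Euler.euler_eq_sub k hd I
  exact ⟨I, hI, e, p, hp, hI0, he, by omega, key⟩

/-- The evaluation on the ambient scheme. -/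
theorem exists_lam {X C : Scheme.{u}} [X.Over (Spec (CommRingCat.of k))] [IsIntegral X]
    [IsProper (X ↘ Spec (CommRingCat.of k))] [C.Over (Spec (CommRingCat.of k))]
    [IsProper (C ↘ Spec (CommRingCat.of k))]
    (i : C ⟶ X) [IsClosedImmersion i] (hi : i ≫ (X ↘ Spec (CommRingCat.of k)) = C ↘ Spec (CommRingCat.of k))
    {I : C.Modules} (hI : Coh.IsCoh I) {e : ℕ} (p : FlatMod.freeMod C e ⟶ I) [Epi p]
    (hI0 : Module.finrank k (Coh.HH C I 0) = e)
    (key : ∀ z : Γ(I, ⊤), ∃ c : Fin e → k, z = ∑ l, (show Γ(C, ⊤) from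
      Coh.toGlobal (C ↘ Spec (CommRingCat.of k)) (c l)) •
        (Sigma.ι (fun _ : Fin e => Coh.structureModule C) l ≫ p).app ⊤ (FinCov.one C ⊤)) :
    ∃ lam : FlatMod.freeMod X e ⟶ (Coh.push i).obj I, Epi lam ∧
      Function.Bijective (Sheaf.H.map ((SheafOfModules.toSheaf _).map lam) 0) := by
  haveI := Euler.isNoetherian_of_proper (X := X) k
  haveI : IsLocallyNoetherian C := LocallyOfFiniteType.isLocallyNoetherian i
  haveI := (K0Sub.isCoh_push i (Euler.isCoh_of_isInvertible (Euler.isInvertible_structure (X := C)))).1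
  haveI : Epi (ClSub.unitToPush i) :=
    K0Sub.epi_of_app_surjective _ fun U => i.app_surjective U.1 U.2
  haveI : PreservesFiniteColimits (Scheme.Modules.pushforward i) := OX.preservesFiniteColimits_pushforward i
  let ιC : Fin e → (Coh.structureModule C ⟶ FlatMod.freeMod C e) :=
    fun l => Sigma.ι (fun _ : Fin e => Coh.structureModule C) l
  let lam : FlatMod.freeMod X e ⟶ (Coh.push i).obj I :=
    Sigma.desc fun l => ClSub.unitToPush i ≫ (Scheme.Modules.pushforward i).map (ιC l ≫ p)
  refine ⟨lam, ⟨fun {Z} g g' h => ?_⟩, ?_⟩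
  · refine (cancel_epi ((Scheme.Modules.pushforward i).map p)).1 ?_
    refine (isColimitOfHasCoproductOfPreservesColimit (Scheme.Modules.pushforward i)
      (fun _ : Fin e => Coh.structureModule C)).hom_ext fun ⟨l⟩ => ?_
    have h1 := congrArg (fun q => Sigma.ι (fun _ : Fin e => Coh.structureModule X) l ≫ q) h
    simp only [lam, Sigma.ι_desc_assoc, Category.assoc, cancel_epi, Functor.map_comp] at h1
    exact h1
  · have hfin : FlatMod.IsFinLocFree (FlatMod.freeMod X e) := fun x => ⟨⊤, e, trivial, ⟨DCoh.restrictFreeModIso _ e⟩⟩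
    haveI := Euler.finiteDimensional_HH k (Euler.isCoh_of_isFinLocFree hfin) 0
    haveI := Euler.finiteDimensional_HH k (K0Sub.isCoh_push i hI) 0
    haveI := hI.1
    obtain ⟨ε⟩ := Snapper.nonempty_HH_linearEquiv_pushforward i hi I 0
    have hs : Function.Surjective (Cohom.hhMap k lam 0) := by
      intro y
      obtain ⟨c, hc⟩ := key (ProjCoh.H0top ((Coh.push i).obj I) y)
      refine ⟨∑ l, c l • (ProjCoh.H0top (FlatMod.freeMod X e)).symm
        ((Sigma.ι (fun _ : Fin e => Coh.structureModule X) l).app ⊤ (FinCov.one X ⊤)), ?_⟩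
      refine (ProjCoh.H0top _).injective ?_
      rw [NegTwist.H0top_hhMap, map_sum, map_sum]
      refine Eq.trans ?_ hc.symm
      refine Finset.sum_congr rfl fun l _ => ?_
      rw [ProjCoh.H0top_smul, AddEquiv.apply_symm_apply, Scheme.Modules.Hom.app_smul]
      have h2 : lam.app ⊤ ((Sigma.ι (fun _ : Fin e => Coh.structureModule X) l).app ⊤ (FinCov.one X ⊤)) =
          (ιC l ≫ p).app ⊤ (FinCov.one C ⊤) := by
        show (Sigma.ι (fun _ : Fin e => Coh.structureModule X) l ≫ lam).app ⊤ _ = _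
        simp only [lam, Sigma.ι_desc]
        exact congrArg ((ιC l ≫ p).app ⊤) (map_one (i.app ⊤).hom)
      rw [h2]
      show (show Γ(C, ⊤) from i.app ⊤ (Coh.toGlobal (X ↘ Spec (CommRingCat.of k)) (c l))) • (show Γ(I, ⊤) from _) = _
      congr 1
      rw [← hi]
      exact (Snapper.toGlobal_comp i (X ↘ Spec (CommRingCat.of k)) (c l)).symm
    have hd : Module.finrank k (Coh.HH X (FlatMod.freeMod X e) 0) =
        Module.finrank k (Coh.HH X ((Coh.push i).obj I) 0) :=
      (finrank_H0_free k e).trans (hI0.symm.trans ε.finrank_eq)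
    exact ⟨(LinearMap.injective_iff_surjective_of_finrank_eq_finrank hd).2 hs, hs⟩

end GrothLib.LM28
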