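import Groth.Agent.Lib.LM28.Basic
import Groth.Agent.Lib.CMReg.Free
import Groth.Agent.Lib.NegTwist.H0

/-!
# Cohomology of `F^∨ ⊗ A` for a simple Lazarsfeld–Mukai bundle
-/

set_option autoImplicit false
set_option maxHeartbeats 800000
set_option linter.all false
set_option backward.isDefEq.respectTransparency false

universe u

open CategoryTheory CategoryTheory.Limits AlgebraicGeometry Opposite TopologicalSpace
open GrothLib.LocFreeHom (iHom T)

noncomputable section

namespace GrothLib.LM28

attribute [local instance] LocFreeHom.hasSheafHom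

variable (k : Type u) [Field k] [IsAlgClosed k] [CharZero k]
    (X : Scheme.{u}) [X.Over (Spec (CommRingCat.of k))] [IsIntegral X]
    [Smooth (X ↘ Spec (CommRingCat.of k))] (hdim : topologicalKrullDim X = 2)
    [IsProper (X ↘ Spec (CommRingCat.of k))]
    (hK : ExtPow.IsExtPow 2 (Omega.sheaf (X ↘ Spec (CommRingCat.of k))) (Coh.structureModule X))
    (hq : Module.finrank k (Coh.HH X (Coh.structureModule X) 1) = 0)
    (C : Scheme.{u}) [C.Over (Spec (CommRingCat.of k))] [IsIntegral C]
    [Smooth (C ↘ Spec (CommRingCat.of k))] (hC : topologicalKrullDim C = 1)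
    (i : C ⟶ X) [IsClosedImmersion i] (hi : i ≫ (X ↘ Spec (CommRingCat.of k)) = C ↘ Spec (CommRingCat.of k))
    (A : C.Modules) (hA : PicF.IsInvertible A) (e : ℕ)
    (lam : FlatMod.freeMod X e ⟶ (Coh.push i).obj A) [Epi lam]

include hdim hK hq hC hA in
/-- `h¹(F^∨ ⊗ i_* A) = h²(End F)`. -/
theorem finrank_H1_dual_tensor
    (hlam : Function.Bijective (Sheaf.H.map ((SheafOfModules.toSheaf _).map lam) 0)) :
    Module.finrank k (Coh.HH X ((Euler.tF (LocFreeDual20.dual (kernel lam))).obj ((Coh.push i).obj A)) 1) =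
      Module.finrank k (Coh.HH X (iHom (kernel lam) (kernel lam)) 0) := by
  haveI := Euler.isNoetherian_of_proper (X := X) k
  have hFl := FinCov.isFinLocFree_of_rank (kernel_bundle k X hdim C hC i A e lam hA)
  set F := kernel lam with hFdef
  have hFc := Euler.isCoh_of_isFinLocFree hFl
  have hOX := Euler.isInvertible_structure (X := X)
  set D := LocFreeDual20.dual F with hDdef
  have hDl : FlatMod.IsFinLocFree D :=
    LocFreeHom.isFinLocFree_iHom hFl (Euler.isFinLocFree_of_isInvertible hOX)
  have hDc := Euler.isCoh_of_isFinLocFree hDl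
  haveI := Euler.finiteDimensional_HH k (Euler.isCoh_of_isInvertible hOX) 1
  haveI := Euler.finiteDimensional_HH k hFc 0
  haveI := Euler.finiteDimensional_HH k hFc 1
  haveI := Euler.finiteDimensional_HH k hDc 1
  haveI := Euler.finiteDimensional_HH k hDc 2
  have hS : (ShortComplex.mk (kernel.ι lam) lam (kernel.condition lam)).ShortExact :=
    ShortComplex.ShortExact.mk' (ShortComplex.exact_of_f_is_kernel _ (kernelIsKernel lam)) inferInstance inferInstance
  -- `F` has no cohomology in degrees `0`, `1`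
  have hF0 : Subsingleton (Coh.HH X F 0) := subsingleton_of_forall_eq 0 fun x => by
    refine NegTwist.injective_hhMap_zero k (kernel.ι lam) ?_
    rw [map_zero]
    refine hlam.1 ((?_ : Cohom.hhMap k lam 0 _ = 0).trans (map_zero (Cohom.hhMap k lam 0)).symm)
    exact (Cohom.exact₂ (A := k) hS 0 _).2 ⟨x, rfl⟩
  have hq0 : Subsingleton (Coh.HH X (Coh.structureModule X) 1) := Module.finrank_zero_iff.1 hq
  haveI hO1 : Subsingleton (Coh.HH X (FlatMod.freeMod X e) 1) :=
    CMReg.subsingleton_HH_sigma (fun _ : Fin e => Coh.structureModule X) fun _ => hq0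
  have hF1 : Subsingleton (Coh.HH X F 1) := subsingleton_of_forall_eq 0 fun y => by
    obtain ⟨z, rfl⟩ := (Cohom.exact₁ (A := k) hS 0 y).1 (@Subsingleton.elim _ hO1 _ _)
    exact (Cohom.exact₃ (A := k) hS 0 z).2 (hlam.2 z)
  have hD1 : Subsingleton (Coh.HH X D 1) := Module.finrank_zero_iff.1
    ((hh_dual k hdim hK hFl (p := 1) (by omega)).symm.trans Module.finrank_zero_of_subsingleton)
  have hD2 : Subsingleton (Coh.HH X D 2) := Module.finrank_zero_iff.1
    ((hh_dual k hdim hK hFl (p := 0) (by omega)).symm.trans Module.finrank_zero_of_subsingleton)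
  have hfree : ∀ q, Subsingleton (Coh.HH X D q) →
      Subsingleton (Coh.HH X ((Euler.tF D).obj (FlatMod.freeMod X e)) q) := fun q hq' => by
    haveI := CMReg.subsingleton_HH_sigma (fun _ : Fin e => D) (q := q) fun _ => hq'
    exact (Euler.hhEquiv (A := k) (CMReg.tensorSigmaIso (fun _ : Fin e => Coh.structureModule X) D ≪≫
      Sigma.mapIso (fun _ => OX.tensorUnitLeftIso D)) q).toEquiv.subsingleton
  have hT : ((ShortComplex.mk (kernel.ι lam) lam (kernel.condition lam)).map (Euler.tF D)).ShortExact :=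
    OX.tensor_map_shortExact (OX.flat_of_isFinLocFree hDl) hS
  have hbij : Function.Bijective (Cohom.hhDelta k hT 1) :=
    ⟨(injective_iff_map_eq_zero _).2 fun x hx => by
      obtain ⟨y, rfl⟩ := (Cohom.exact₃ (A := k) hT 1 x).1 hx
      exact (congrArg _ (@Subsingleton.elim _ (hfree 1 hD1) y 0)).trans (map_zero _),
    fun y => (Cohom.exact₁ (A := k) hT 1 y).1 (@Subsingleton.elim _ (hfree 2 hD2) _ _)⟩
  refine (LinearEquiv.ofBijective _ hbij).finrank_eq.trans ?_
  haveI := LocFreeDual20.isIso_θ hFl F
  exact (Euler.hhEquiv (A := k) (asIso (LocFreeDual20.θ F F)) (1 + 1)).finrank_eq.trans (hh2_end k hdim hK hFl)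

end GrothLib.LM28
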